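import Groth.Agent.Lib.Helper36.PushTrunc.Core2

/-!
# Vanishing of `H^j(Rf_* L)` for `L ∈ D_A^{≤ m}`, `m + N < j` (helper36)
-/

set_option autoImplicit false
universe u

namespace Groth.Agent.Lib.Helper36.PushTrunc

open CategoryTheory CategoryTheory.Limits Opposite DerivedCategory DerivedCategory.TStructure
  Pretriangulated
open Groth.Agent.Lib.Helper74.ModQc Groth.Agent.Lib.Helper74.ModTrunc
  Groth.Agent.Lib.Helper32 Groth.Agent.Lib.Helper32.KInjDerived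

attribute [local instance] HasDerivedCategory.standard

variable {C : Type u} [SmallCategory C] {J : GrothendieckTopology C}
  {O_C : Sheaf J CommRingCat.{u}}
  {D : Type u} [SmallCategory D] {K : GrothendieckTopology D} {O_D : Sheaf K CommRingCat.{u}}
  (f : ModSite.RMor O_C O_D)
  [HasInjectiveResolutions (ModSite.Mod O_C)] [SiteCmp.HasRpushD f]
  (A : ObjectProperty (ModSite.Mod O_C)) [WSerre.IsWeakSerre A]
  (B : Set C) (B' : Set D)
  (hB : ∀ U : C, ∃ (ι : Type u) (Y : ι → C) (g : ∀ i, Y i ⟶ U),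
    Sieve.ofArrows Y g ∈ J U ∧ ∀ i, Y i ∈ B)
  (hA : ∀ V ∈ B, ∃ d : ℕ, ∀ T ∈ J V, ∃ (ι : Type u) (Y : ι → C) (g : ∀ i, Y i ⟶ V),
    (∀ i, T.arrows (g i)) ∧ Sieve.ofArrows Y g ∈ J V ∧
    ∀ (i : ι) (F : ModSite.Mod O_C), A F → ∀ k : ℕ, d < k →
      Subsingleton (ModSite.HU O_C F k (Y i)))
  (hB' : ∀ U : D, ∃ (ι : Type u) (Y : ι → D) (g : ∀ i, Y i ⟶ U),
    Sieve.ofArrows Y g ∈ K U ∧ ∀ i, Y i ∈ B')
  (hA' : ∀ V ∈ B', ∃ d : ℕ, ∀ T ∈ K V, ∃ (ι : Type u) (Y : ι → D) (g : ∀ i, Y i ⟶ V),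
    (∀ i, T.arrows (g i)) ∧ Sieve.ofArrows Y g ∈ K V ∧
    ∀ (i : ι) (F : ModSite.Mod O_C), A F → ∀ k : ℕ, d < k →
      Subsingleton (ModSite.HU O_C F k (f.fn.obj (Y i))))
  (N : ℤ)
  (h3 : ∀ F : ModSite.Mod O_C, A F → ∀ p : ℕ, N < (p : ℤ) → IsZero ((f.Rpush p).obj F))

include hB hA hB' hA' h3 in
theorem zeroSieve_mem (L : DerivedCategory (ModSite.Mod O_C)) (hL : WSerre.cohIn A L)
    (m : ℤ) (hm : L.IsLE m) (hmN : m + N < 0) (W : D)
    (c : (DerivedCategory.singleFunctor (ModSite.Mod O_C) 0).obj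
      (ModSite.freeOn O_C (f.fn.obj W)) ⟶ L) :
    zeroSieve f W c ∈ K W := by
  obtain ⟨ι, Y₀, g₀, hcov, hYB⟩ := hB' W
  refine K.transitive hcov _ ?_
  rintro V' h' ⟨V'', a, _, ⟨i⟩, rfl⟩
  rw [Sieve.pullback_comp]
  apply K.pullback_stable
  rw [zeroSieve_pullback]
  obtain ⟨d, hd⟩ := hA' (Y₀ i) (hYB i)
  exact zeroSieve_mem_of_dim f A B hB hA N h3 L hL m hm hmN (Y₀ i) d hd _

include hB hA hB' hA' h3 in
theorem exactAt_zero (L : DerivedCategory (ModSite.Mod O_C)) (hL : WSerre.cohIn A L)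
    (m : ℤ) (hm : L.IsLE m) (hmN : m + N < 0)
    (I : CochainComplex (ModSite.Mod O_C) ℤ) [I.IsKInjective] (e : L ≅ Q.obj I) :
    (FC f I).ExactAt 0 := by
  apply exactAt_of_zeroSieve_mem
  intro W c
  have h1 := zeroSieve_mem f A B B' hB hA hB' hA' N h3 L hL m hm hmN W (c ≫ e.inv)
  refine K.superset_covering ?_ h1
  intro V h hh
  have h2 : restr f h (c ≫ e.inv) = 0 := hh
  rw [restr_postcomp] at h2
  show restr f h c = 0
  rw [← cancel_mono e.inv, h2, zero_comp]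

include hB hA hB' hA' h3 in
theorem isZero_homology_rpushD (L : DerivedCategory (ModSite.Mod O_C)) (hL : WSerre.cohIn A L)
    (m : ℤ) (hm : L.IsLE m) (j : ℤ) (hmN : m + N < j) :
    IsZero ((homologyFunctor (ModSite.Mod O_D) j).obj ((SiteCmp.RpushD f).obj L)) := by
  obtain ⟨I, hI, ⟨e⟩⟩ := exists_kInjective L
  rw [← exactAt_iff_isZero_homology_rpush f I e j]
  let e' : L⟦j⟧ ≅ Q.obj (I⟦j⟧) :=
    (shiftFunctor (DerivedCategory (ModSite.Mod O_C)) j).mapIso e ≪≫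
      ((Q.commShiftIso j).app I).symm
  have hL' : WSerre.cohIn A (L⟦j⟧) := WayOut2.cohIn_shift A j hL
  have hm' : (L⟦j⟧).IsLE (m - j) := t.isLE_shift L m j (m - j) (by omega)
  have h0 : (FC f (I⟦j⟧)).ExactAt 0 :=
    exactAt_zero f A B B' hB hA hB' hA' N h3 (L⟦j⟧) hL' (m - j) hm' (by omega) (I⟦j⟧) e'
  have h1 : ((FC f I)⟦j⟧).ExactAt 0 := by
    rw [HomologicalComplex.exactAt_iff_isZero_homology] at h0 ⊢
    exact IsZero.of_iso h0 ((HomologicalComplex.homologyFunctor _ _ 0).mapIso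
      (((f.push.mapHomologicalComplex (ComplexShape.up ℤ)).commShiftIso j).app I)).symm
  have e2 := (CochainComplex.shiftShortComplexFunctorIso (ModSite.Mod O_D) j 0 j (add_zero j)).app
    (FC f I)
  exact (ShortComplex.exact_iff_of_iso e2).1 h1

end Groth.Agent.Lib.Helper36.PushTrunc
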