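import Groth.Agent.Lib.Helper36.PushTrunc.Core3
import Groth.Agent.Lib.Helper32.RFBounded
import Groth.Agent.Lib.Helper32.WayOut
import Groth.Agent.Lib.Helper32.WayOut2

/-!
# `Rf_*` sends `D^+_A` into `D_{A'}` when `R^p f_* A ⊂ A'` (helper36)
-/

set_option autoImplicit false
universe u

namespace Groth.Agent.Lib.Helper36.PushTrunc

open CategoryTheory CategoryTheory.Limits Opposite DerivedCategory DerivedCategory.TStructure
  Pretriangulated
open Groth.Agent.Lib.Helper32 Groth.Agent.Lib.Helper32.KInjDerived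

attribute [local instance] HasDerivedCategory.standard

variable {C : Type u} [SmallCategory C] {J : GrothendieckTopology C}
  {O_C : Sheaf J CommRingCat.{u}}
  {D : Type u} [SmallCategory D] {K : GrothendieckTopology D} {O_D : Sheaf K CommRingCat.{u}}
  (f : ModSite.RMor O_C O_D) [HasInjectiveResolutions (ModSite.Mod O_C)] [SiteCmp.HasRpushD f]
  (A : ObjectProperty (ModSite.Mod O_C)) [WSerre.IsWeakSerre A]
  (A' : ObjectProperty (ModSite.Mod O_D)) [WSerre.IsWeakSerre A']
  (h3 : ∀ F : ModSite.Mod O_C, A F → ∀ p : ℕ, A' ((f.Rpush p).obj F))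

include h3 in
lemma cohIn_rpushD_single (M : ModSite.Mod O_C) (hM : A M) (q : ℤ) :
    WSerre.cohIn A' ((SiteCmp.RpushD f).obj
      ((DerivedCategory.singleFunctor (ModSite.Mod O_C) q).obj M)) := by
  intro i
  have e1 := homologyRpushIso f (RFBounded.L M q) (RFBounded.singleIso M q) i
  have e2 := RFBounded.homologyIso f.push M q i (-q + i) rfl
  by_cases hp : 0 ≤ -q + i
  · obtain ⟨p, hp'⟩ := Int.eq_ofNat_of_zero_le hp
    have e3 := HomologicalComplex.extendHomologyIso
      ((f.push.mapHomologicalComplex (ComplexShape.up ℕ)).obj (injectiveResolution M).cocomplex)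
      ComplexShape.embeddingUpNat (j := p) (j' := -q + i) (by simp [hp'])
    have e4 := ((injectiveResolution M).isoRightDerivedObj f.push p).symm
    exact A'.prop_of_iso (e1 ≪≫ e2 ≪≫ e3 ≪≫ e4).symm (h3 M hM p)
  · refine A'.prop_of_isZero (IsZero.of_iso ?_ (e1 ≪≫ e2))
    rw [← HomologicalComplex.exactAt_iff_isZero_homology]
    apply HomologicalComplex.exactAt_of_isSupported _ ComplexShape.embeddingUpNat
    intro k hk
    simp at hk
    lia

include h3 in
/-- `Rf_*` sends bounded below objects of `D_A` into `D_{A'}` -/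
theorem cohIn_rpushD_of_isGE (E : DerivedCategory (ModSite.Mod O_C)) (hE : WSerre.cohIn A E)
    (a : ℤ) (hGE : E.IsGE a) : WSerre.cohIn A' ((SiteCmp.RpushD f).obj E) := by
  haveI : IsGrothendieckAbelian.{u} (ModSite.Mod O_C) :=
    Groth.Agent.S0484.result J (ModSite.ringSh O_C)
  intro i
  let Δ := (t.triangleLEGE i (i + 1) rfl).obj E
  have hΔ : Δ ∈ distTriang _ := t.triangleLEGE_distinguished i (i + 1) rfl E
  haveI := hGE
  have hΔ₁LE : Δ.obj₁.IsLE i := by
    change ((t.truncLE i).obj E).IsLE i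
    infer_instance
  have hΔ₃GE : Δ.obj₃.IsGE (i + 1) := by
    change ((t.truncGE (i + 1)).obj E).IsGE (i + 1)
    infer_instance
  have hΔ₁GE : Δ.obj₁.IsGE a := by
    change ((t.truncLE i).obj E).IsGE a
    infer_instance
  have hiso : ∀ {X Y : DerivedCategory (ModSite.Mod O_C)}, (X ≅ Y) →
      WSerre.cohIn A' ((SiteCmp.RpushD f).obj X) → WSerre.cohIn A' ((SiteCmp.RpushD f).obj Y) :=
    fun e hX => WayOut2.cohIn_of_iso A' ((SiteCmp.RpushD f).mapIso e) hX
  have hzero : ∀ Z : DerivedCategory (ModSite.Mod O_C), IsZero Z →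
      WSerre.cohIn A' ((SiteCmp.RpushD f).obj Z) :=
    fun Z hZ i => A'.prop_of_isZero (RFBounded.isZero_homology_of_isZero f.push
      (SiteCmp.RpushD f) (αR f) hasKInjRes_mod Z hZ i)
  have hext : ∀ Δ : Triangle (DerivedCategory (ModSite.Mod O_C)), Δ ∈ distTriang _ →
      WSerre.cohIn A' ((SiteCmp.RpushD f).obj Δ.obj₁) →
      WSerre.cohIn A' ((SiteCmp.RpushD f).obj Δ.obj₃) →
      WSerre.cohIn A' ((SiteCmp.RpushD f).obj Δ.obj₂) := by
    intro Δ hΔ h₁ h₃
    obtain ⟨h, hh⟩ := TriRF.exists_distinguished f.push (SiteCmp.RpushD f) (αR f)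
      hasKInjRes_mod Δ hΔ
    exact WayOut2.cohIn_ext₂ A' _ hh h₁ h₃
  have hb : WSerre.cohIn A' ((SiteCmp.RpushD f).obj Δ.obj₁) := by
    by_cases hi : a ≤ i
    · have hk : a + ((i - a + 1).toNat : ℤ) - 1 = i := by
        rw [Int.toNat_of_nonneg (by omega)]
        ring
      refine WayOut2.prop_of_bounded (fun Z => WSerre.cohIn A' ((SiteCmp.RpushD f).obj Z))
        hiso hzero hext (i - a + 1).toNat a Δ.obj₁ hΔ₁GE (by rwa [hk]) ?_
      rintro q M ⟨e⟩
      refine cohIn_rpushD_single f A A' h3 M ?_ q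
      by_cases hq : q < i + 1
      · have := WayOut.isIso_homologyMap_mor₁ Δ hΔ (i + 1) q hq hΔ₃GE
        have e' : M ≅ (homologyFunctor (ModSite.Mod O_C) q).obj E :=
          e ≪≫ @asIso _ _ _ _ ((homologyFunctor (ModSite.Mod O_C) q).map Δ.mor₁) this
        exact A.prop_of_iso e'.symm (hE q)
      · have : IsZero M := (isZero_of_isLE Δ.obj₁ i q (by omega)).of_iso e
        exact A.prop_of_isZero this
    · haveI : E.IsGE (i + 1) := t.isGE_of_ge E (i + 1) a (by omega)
      exact hzero _ (t.isZero_truncLE_obj_of_isGE i (i + 1) rfl E)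
  obtain ⟨h, hh⟩ := TriRF.exists_distinguished f.push (SiteCmp.RpushD f) (αR f)
    hasKInjRes_mod Δ hΔ
  have hR3 : ((SiteCmp.RpushD f).obj Δ.obj₃).IsGE (i + 1) :=
    WayOut.isGE_rightDerived hasKInjRes_mod f.push (SiteCmp.RpushD f) (αR f) _ _ hΔ₃GE
  have key : IsIso ((homologyFunctor (ModSite.Mod O_D) i).map
      ((SiteCmp.RpushD f).map Δ.mor₁)) :=
    WayOut.isIso_homologyMap_mor₁ _ hh (i + 1) i (by omega) hR3
  exact A'.prop_of_iso (@asIso _ _ _ _ ((homologyFunctor (ModSite.Mod O_D) i).map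
    ((SiteCmp.RpushD f).map Δ.mor₁)) key) (hb i)

end Groth.Agent.Lib.Helper36.PushTrunc
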