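import Groth.Agent.Lib.Helper32.RFBounded

/-!
# Amplitude bound for `RF E`, `E` bounded, with an integer bound (helper36)

Variant of helper32's `RFBounded.isZero_homology_of_bounded` in which the vanishing bound for the
derived functors is an integer (possibly negative).
-/

set_option autoImplicit false
universe w w' v v' u u'

namespace Groth.Agent.Lib.Helper36.PushTrunc

open CategoryTheory CategoryTheory.Limits DerivedCategory
open Groth.Agent.Lib.Helper32 Groth.Agent.Lib.Helper32.KInjDerived
  Groth.Agent.Lib.Helper32.RFBounded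

variable {A : Type u} [Category.{v} A] [Abelian A] [HasDerivedCategory.{w} A]
  {B : Type u'} [Category.{v'} B] [Abelian B] [HasDerivedCategory.{w'} B]
  (F : A ⥤ B) [F.Additive] [HasInjectiveResolutions A]
  (RF : DerivedCategory A ⥤ DerivedCategory B)
  (α : F.mapHomotopyCategory (ComplexShape.up ℤ) ⋙ DerivedCategory.Qh ⟶ DerivedCategory.Qh ⋙ RF)
  [RF.IsRightDerivedFunctor α (HomotopyCategory.quasiIso A (ComplexShape.up ℤ))]

include α in
theorem isZero_homology_of_boundedZ (hA : HasKInjRes A) (N : ℤ) (E : DerivedCategory A) (a b : ℤ)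
    (hGE : E.IsGE a) (hLE : E.IsLE b)
    (hF : ∀ (j : ℤ) (p : ℕ), N < (p : ℤ) →
      IsZero ((F.rightDerived p).obj ((homologyFunctor A j).obj E)))
    (i : ℤ) (hi : b + N < i) :
    IsZero ((homologyFunctor B i).obj (RF.obj E)) := by
  by_cases hab : b < a
  · exact isZero_homology_of_isZero F RF α hA E (TStructure.t.isZero E b a hab) i
  obtain ⟨k, hk⟩ : ∃ k : ℕ, b = a + k - 1 := ⟨(b + 1 - a).toNat, by lia⟩
  subst hk
  refine WayOut2.prop_of_bounded (fun Z => IsZero ((homologyFunctor B i).obj (RF.obj Z)))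
    (fun e h => IsZero.of_iso h ((homologyFunctor B i).mapIso (RF.mapIso e.symm)))
    (fun Z hZ => isZero_homology_of_isZero F RF α hA Z hZ i)
    (fun Δ hΔ h₁ h₃ => TriRF.isZero_homology_obj₂ F RF α hA Δ hΔ i h₁ h₃) k a E hGE hLE ?_
  rintro q M ⟨e⟩
  by_cases hq : q ≤ a + k - 1
  · apply isZero_homology_single F RF α hA
    intro p hp
    exact IsZero.of_iso (hF q p (by lia)) ((F.rightDerived p).mapIso e)
  · haveI := hLE
    have hM : IsZero M := (DerivedCategory.isZero_of_isLE E (a + k - 1) q (by lia)).of_iso e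
    exact isZero_homology_of_isZero F RF α hA _ ((singleFunctor A q).map_isZero hM) i

end Groth.Agent.Lib.Helper36.PushTrunc
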