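import Groth.Agent.Lib.Helper36.PushTrunc.SecClass
import Groth.Agent.Lib.Helper36.PushTrunc.Unbounded
import Groth.Agent.Lib.Helper36.PushTrunc.RFBoundedZ
import Groth.Prelude.Def_SiteCmp

/-!
# Vanishing of `H^0(Rf_* L)` for `L ∈ D_A^{≤ m}`, `m + N < 0` (helper36)
-/

set_option autoImplicit false
universe u

namespace Groth.Agent.Lib.Helper36.PushTrunc

open CategoryTheory CategoryTheory.Limits Opposite DerivedCategory DerivedCategory.TStructure
  Pretriangulated
open Groth.Agent.Lib.Helper74.ModQc Groth.Agent.Lib.Helper74.ModTrunc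
  Groth.Agent.Lib.Helper32 Groth.Agent.Lib.Helper32.KInjDerived

attribute [local instance] HasDerivedCategory.standard

variable {C : Type u} [SmallCategory C] {J : GrothendieckTopology C}
  {O_C : Sheaf J CommRingCat.{u}}
  {D : Type u} [SmallCategory D] {K : GrothendieckTopology D} {O_D : Sheaf K CommRingCat.{u}}
  (f : ModSite.RMor O_C O_D)

/-- `f_*` applied termwise to a complex -/
noncomputable abbrev FC (I : CochainComplex (ModSite.Mod O_C) ℤ) :
    CochainComplex (ModSite.Mod O_D) ℤ :=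
  (f.push.mapHomologicalComplex (ComplexShape.up ℤ)).obj I

/-- restriction of a class along `u(h)` -/
noncomputable abbrev restr {M : DerivedCategory (ModSite.Mod O_C)} {W V : D} (h : V ⟶ W)
    (c : (DerivedCategory.singleFunctor (ModSite.Mod O_C) 0).obj
      (ModSite.freeOn O_C (f.fn.obj W)) ⟶ M) :
    (DerivedCategory.singleFunctor (ModSite.Mod O_C) 0).obj
      (ModSite.freeOn O_C (f.fn.obj V)) ⟶ M :=
  (DerivedCategory.singleFunctor (ModSite.Mod O_C) 0).map (freeOnMap O_C (f.fn.map h)) ≫ c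

lemma restr_comp {M : DerivedCategory (ModSite.Mod O_C)} {W V V' : D} (h : V ⟶ W) (a : V' ⟶ V)
    (c : (DerivedCategory.singleFunctor (ModSite.Mod O_C) 0).obj
      (ModSite.freeOn O_C (f.fn.obj W)) ⟶ M) :
    restr f (a ≫ h) c = restr f a (restr f h c) := by
  dsimp only [restr]
  rw [f.fn.map_comp, freeOnMap_comp, Functor.map_comp, Category.assoc]

lemma restr_postcomp {M M' : DerivedCategory (ModSite.Mod O_C)} {W V : D} (h : V ⟶ W)
    (c : (DerivedCategory.singleFunctor (ModSite.Mod O_C) 0).obj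
      (ModSite.freeOn O_C (f.fn.obj W)) ⟶ M) (p : M ⟶ M') :
    restr f h (c ≫ p) = restr f h c ≫ p := by
  dsimp only [restr]
  rw [Category.assoc]

/-- the sieve of arrows along which a class restricts to zero -/
noncomputable def zeroSieve {M : DerivedCategory (ModSite.Mod O_C)} (W : D)
    (c : (DerivedCategory.singleFunctor (ModSite.Mod O_C) 0).obj
      (ModSite.freeOn O_C (f.fn.obj W)) ⟶ M) : Sieve W where
  arrows V h := restr f h c = 0
  downward_closed := by
    intro V V' h hh a
    show restr f (a ≫ h) c = 0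
    rw [restr_comp, hh]
    dsimp only [restr]
    rw [comp_zero]

lemma zeroSieve_pullback {M : DerivedCategory (ModSite.Mod O_C)} {W V : D} (h : V ⟶ W)
    (c : (DerivedCategory.singleFunctor (ModSite.Mod O_C) 0).obj
      (ModSite.freeOn O_C (f.fn.obj W)) ⟶ M) :
    (zeroSieve f W c).pullback h = zeroSieve f V (restr f h c) := by
  ext V' a
  show restr f (a ≫ h) c = 0 ↔ restr f a (restr f h c) = 0
  rw [restr_comp]

/-- if `f_* I` is exact in degree `0` (`I` K-injective), classes are locally zero -/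
lemma zeroSieve_mem_of_exactAt (I : CochainComplex (ModSite.Mod O_C) ℤ) [I.IsKInjective]
    {M : DerivedCategory (ModSite.Mod O_C)} (e : M ≅ Q.obj I) (hex : (FC f I).ExactAt 0) (W : D)
    (c : (DerivedCategory.singleFunctor (ModSite.Mod O_C) 0).obj
      (ModSite.freeOn O_C (f.fn.obj W)) ⟶ M) :
    zeroSieve f W c ∈ K W := by
  obtain ⟨z, hz, hcl⟩ := exists_cl_eq I (c ≫ e.hom)
  have hex' : ((FC f I).sc' (-1) 0 1).Exact :=
    (HomologicalComplex.exactAt_iff' _ (-1) 0 1 (by simp) (by simp)).1 hex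
  obtain ⟨R, hR, hlift⟩ := locallyExact_of_exact _ hex' W z hz
  refine K.superset_covering ?_ hR
  intro V h hh
  obtain ⟨y, hy⟩ := hlift h hh
  have hz' := restrict_cycle I (f.fn.map h) z hz
  have h1 : cl I (U := f.fn.obj V) ((I.X 0).val.map (f.fn.map h).op z) hz' = 0 :=
    cl_eq_zero_of_boundary I _ hz' y hy
  rw [← cl_restrict I (f.fn.map h) z hz hz', hcl] at h1
  show restr f h c = 0
  rw [← cancel_mono e.hom, zero_comp]
  dsimp only [restr]
  rw [Category.assoc]
  exact h1

/-- if all classes are locally zero then `f_* I` is exact in degree `0` -/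
lemma exactAt_of_zeroSieve_mem (I : CochainComplex (ModSite.Mod O_C) ℤ) [I.IsKInjective]
    (h : ∀ (W : D) (c : (DerivedCategory.singleFunctor (ModSite.Mod O_C) 0).obj
      (ModSite.freeOn O_C (f.fn.obj W)) ⟶ Q.obj I), zeroSieve f W c ∈ K W) :
    (FC f I).ExactAt 0 := by
  rw [HomologicalComplex.exactAt_iff' _ (-1) 0 1 (by simp) (by simp)]
  apply exact_of_locallyExact
  intro W z hz
  have hz0 : secMap (I.d 0 1) (f.fn.obj W) z = 0 := hz
  refine ⟨_, h W (cl I (U := f.fn.obj W) z hz0), fun V hh hhR => ?_⟩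
  have h1 : restr f hh (cl I (U := f.fn.obj W) z hz0) = 0 := hhR
  dsimp only [restr] at h1
  rw [cl_restrict I (f.fn.map hh) z hz0 (restrict_cycle I (f.fn.map hh) z hz0)] at h1
  obtain ⟨y, hy⟩ := exists_boundary_of_cl_eq_zero I _ _ h1
  exact ⟨y, hy⟩

end Groth.Agent.Lib.Helper36.PushTrunc
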