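import Groth.Agent.Lib.Helper36.PushTrunc.Core

/-!
# Vanishing of `H^0(Rf_* L)` for `L ∈ D_A^{≤ m}`, `m + N < 0` (helper36), part 2
-/

set_option autoImplicit false
universe u

namespace Groth.Agent.Lib.Helper36.PushTrunc

open CategoryTheory CategoryTheory.Limits Opposite DerivedCategory DerivedCategory.TStructure
  Pretriangulated
open Groth.Agent.Lib.Helper74.ModQc Groth.Agent.Lib.Helper74.ModTrunc
  Groth.Agent.Lib.Helper32 Groth.Agent.Lib.Helper32.KInjDerived

attribute [local instance] HasDerivedCategory.standard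

variable {C : Type u} [SmallCategory C] {J : GrothendieckTopology C}
  {O_C : Sheaf J CommRingCat.{u}}
  {D : Type u} [SmallCategory D] {K : GrothendieckTopology D} {O_D : Sheaf K CommRingCat.{u}}
  (f : ModSite.RMor O_C O_D)

lemma hasKInjRes_mod : HasKInjRes (ModSite.Mod O_C) := by
  haveI : IsGrothendieckAbelian.{u} (ModSite.Mod O_C) :=
    Groth.Agent.S0484.result J (ModSite.ringSh O_C)
  intro M
  obtain ⟨I, g, hI, hg, -, -⟩ := Groth.Agent.Lib.Helper32.KInjRes.exists_kInjective_resolution M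
  exact ⟨I, g, hI, hg⟩

section

variable [HasInjectiveResolutions (ModSite.Mod O_C)] [SiteCmp.HasRpushD f]

/-- the unit of the total right derived functor -/
noncomputable abbrev αR :
    f.push.mapHomotopyCategory (ComplexShape.up ℤ) ⋙ DerivedCategory.Qh ⟶
      DerivedCategory.Qh ⋙ SiteCmp.RpushD f :=
  (SiteCmp.pushKh f).totalRightDerivedUnit DerivedCategory.Qh
    (HomotopyCategory.quasiIso (ModSite.Mod O_C) (ComplexShape.up ℤ))

/-- `H^i(Rf_* M) ≅ H^i(f_* I)` for a K-injective representative `I` of `M` -/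
noncomputable def homologyRpushIso (I : CochainComplex (ModSite.Mod O_C) ℤ) [I.IsKInjective]
    {M : DerivedCategory (ModSite.Mod O_C)} (e : M ≅ Q.obj I) (i : ℤ) :
    (homologyFunctor (ModSite.Mod O_D) i).obj ((SiteCmp.RpushD f).obj M) ≅ (FC f I).homology i :=
  haveI := TriRF.isIso_β f.push (SiteCmp.RpushD f) (αR f) hasKInjRes_mod I
  (homologyFunctor (ModSite.Mod O_D) i).mapIso
    ((SiteCmp.RpushD f).mapIso e ≪≫ (asIso (TriRF.β f.push (SiteCmp.RpushD f) (αR f) I)).symm) ≪≫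
    (homologyFunctorFactors (ModSite.Mod O_D) i).app _

lemma exactAt_iff_isZero_homology_rpush (I : CochainComplex (ModSite.Mod O_C) ℤ) [I.IsKInjective]
    {M : DerivedCategory (ModSite.Mod O_C)} (e : M ≅ Q.obj I) (i : ℤ) :
    (FC f I).ExactAt i ↔
      IsZero ((homologyFunctor (ModSite.Mod O_D) i).obj ((SiteCmp.RpushD f).obj M)) := by
  rw [HomologicalComplex.exactAt_iff_isZero_homology]
  exact (Iso.isZero_iff (homologyRpushIso f I e i)).symm

/-- truncation `τ_{≥ b}` preserves `IsLE m` -/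
lemma isLE_truncGE (L : DerivedCategory (ModSite.Mod O_C)) (m b : ℤ) (hm : L.IsLE m) :
    ((t.truncGE b).obj L).IsLE m := by
  rw [DerivedCategory.isLE_iff]
  intro i hi
  by_cases hbi : b ≤ i
  · have := Groth.Agent.Lib.Helper58.isIso_homology_truncGEπ L b i hbi
    exact IsZero.of_iso (L.isZero_of_isLE m i hi)
      (asIso ((homologyFunctor (ModSite.Mod O_C) i).map ((t.truncGEπ b).app L))).symm
  · exact ((t.truncGE b).obj L).isZero_of_isGE b i (by omega)

variable (A : ObjectProperty (ModSite.Mod O_C)) [WSerre.IsWeakSerre A]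
  (B : Set C)
  (hB : ∀ U : C, ∃ (ι : Type u) (Y : ι → C) (g : ∀ i, Y i ⟶ U),
    Sieve.ofArrows Y g ∈ J U ∧ ∀ i, Y i ∈ B)
  (hA : ∀ V ∈ B, ∃ d : ℕ, ∀ T ∈ J V, ∃ (ι : Type u) (Y : ι → C) (g : ∀ i, Y i ⟶ V),
    (∀ i, T.arrows (g i)) ∧ Sieve.ofArrows Y g ∈ J V ∧
    ∀ (i : ι) (F : ModSite.Mod O_C), A F → ∀ k : ℕ, d < k →
      Subsingleton (ModSite.HU O_C F k (Y i)))
  (N : ℤ)
  (h3 : ∀ F : ModSite.Mod O_C, A F → ∀ p : ℕ, N < (p : ℤ) → IsZero ((f.Rpush p).obj F))

include hB hA h3 in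
/-- the key local statement over an object `V` with a cofinal system of coverings with bounded
cohomological dimension -/
theorem zeroSieve_mem_of_dim (L : DerivedCategory (ModSite.Mod O_C)) (hL : WSerre.cohIn A L)
    (m : ℤ) (hm : L.IsLE m) (hmN : m + N < 0) (V : D) (d : ℕ)
    (hd : ∀ T ∈ K V, ∃ (ι : Type u) (Y : ι → D) (g : ∀ i, Y i ⟶ V),
      (∀ i, T.arrows (g i)) ∧ Sieve.ofArrows Y g ∈ K V ∧
      ∀ (i : ι) (F : ModSite.Mod O_C), A F → ∀ k : ℕ, d < k →
        Subsingleton (ModSite.HU O_C F k (f.fn.obj (Y i))))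
    (c : (DerivedCategory.singleFunctor (ModSite.Mod O_C) 0).obj
      (ModSite.freeOn O_C (f.fn.obj V)) ⟶ L) :
    zeroSieve f V c ∈ K V := by
  have hP0 : ∀ Z : ModSite.Mod O_C, IsZero Z → A Z := fun Z hZ => A.prop_of_isZero hZ
  let m'' : ℤ := min m (-(d : ℤ) - 1)
  have hT := t.triangleLEGE_distinguished m'' (m'' + 1) rfl L
  let M := (t.truncGE (m'' + 1)).obj L
  let π : L ⟶ M := (t.truncGEπ (m'' + 1)).app L
  have hMA : WSerre.cohIn A M :=
    Groth.Agent.Lib.Helper58.prop_homology_truncGE A hP0 L (m'' + 1) hL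
  have hMGE : M.IsGE (m'' + 1) := inferInstanceAs (t.IsGE ((t.truncGE (m'' + 1)).obj L) _)
  have hMLE : M.IsLE m := isLE_truncGE L m (m'' + 1) hm
  have hzero : IsZero ((homologyFunctor (ModSite.Mod O_D) 0).obj ((SiteCmp.RpushD f).obj M)) :=
    isZero_homology_of_boundedZ f.push (SiteCmp.RpushD f) (αR f) hasKInjRes_mod N M (m'' + 1) m
      hMGE hMLE (fun j p hp => h3 _ (hMA j) p hp) 0 (by omega)
  obtain ⟨IM, hIM, ⟨eM⟩⟩ := exists_kInjective M
  have hex : (FC f IM).ExactAt 0 := (exactAt_iff_isZero_homology_rpush f IM eM 0).2 hzero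
  have hR := zeroSieve_mem_of_exactAt f IM eM hex V (c ≫ π)
  obtain ⟨ι', Y', g', hgR, hcov', hvan⟩ := hd _ hR
  refine K.superset_covering ?_ hcov'
  rintro _ _ ⟨_, a, _, ⟨k⟩, rfl⟩
  refine (zeroSieve f V c).downward_closed ?_ a
  show restr f (g' k) c = 0
  have h1 : restr f (g' k) c ≫ π = 0 := by
    rw [← restr_postcomp]
    exact hgR k
  obtain ⟨c', hc'⟩ := Triangle.coyoneda_exact₂ _ hT (restr f (g' k) c) h1
  have hLE'' : ((t.truncLE m'').obj L).IsLE m'' :=
    inferInstanceAs (t.IsLE ((t.truncLE m'').obj L) _)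
  have hc0 : c' = 0 :=
    hom_freeOn_eq_zero A B hB hA (f.fn.obj (Y' k)) d (hvan k) ((t.truncLE m'').obj L)
      (Groth.Agent.Lib.Helper58.prop_homology_truncLE A hP0 L m'' hL) m'' hLE''
      (by simp only [m'']; omega) c'
  exact hc'.trans (by rw [hc0]; exact zero_comp)

end

end Groth.Agent.Lib.Helper36.PushTrunc
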