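import Groth.Agent.Lib.Helper74.ModTrunc.ModHD

/-!
# Local criterion for exactness of complexes of modules on a ringed site (helper36)

A short complex `X₁ ⟶ X₂ ⟶ X₃` of `O`-modules on a small ringed site is exact iff every section of
`X₂` killed by `g` is locally in the image of `f`.
-/

set_option autoImplicit false
universe u

namespace Groth.Agent.Lib.Helper36.PushTrunc

open CategoryTheory CategoryTheory.Limits Opposite
open Groth.Agent.Lib.Helper74.ModQc Groth.Agent.Lib.Helper74.ModTrunc

variable {C : Type u} [SmallCategory C] {J : GrothendieckTopology C}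
  {O : Sheaf J CommRingCat.{u}}

/-- monomorphisms of modules are injective on sections -/
lemma secMap_injective_of_mono {M N : ModSite.Mod O} (φ : M ⟶ N) [Mono φ] (V : C) :
    Function.Injective (secMap φ V) := by
  rw [injective_iff_map_eq_zero]
  intro x hx
  have h1 : ofSec O x ≫ φ = 0 := by
    rw [ofSec_comp, hx]
    apply toSec_injective
    rw [toSec_ofSec, toSec_zero]
  have h2 : ofSec O x = 0 := by
    rw [← cancel_mono φ, h1, zero_comp]
  have h3 := toSec_ofSec (O := O) x
  rw [h2, toSec_zero] at h3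
  exact h3.symm

/-- the local lifting property characterising exactness -/
def LocallyExact (S : ShortComplex (ModSite.Mod O)) : Prop :=
  ∀ (W : C) (z : S.X₂.val.obj (op W)), secMap S.g W z = 0 →
    ∃ R ∈ J W, ∀ ⦃V : C⦄ (h : V ⟶ W), R h →
      ∃ y : S.X₁.val.obj (op V), secMap S.f V y = S.X₂.val.map h.op z

lemma locallyExact_of_exact (S : ShortComplex (ModSite.Mod O)) (hS : S.Exact) :
    LocallyExact S := by
  intro W z hz
  have hx : ofSec O z ≫ S.g = 0 := by
    rw [ofSec_comp, hz]
    apply toSec_injective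
    rw [toSec_ofSec, toSec_zero]
  obtain ⟨A', π, hπ, x₁, hx₁⟩ := (ShortComplex.exact_iff_exact_up_to_refinements S).1 hS
    (ofSec O z) hx
  obtain ⟨R, hR, hlift⟩ := local_lift π (𝟙 (ModSite.freeOn O W))
  refine ⟨R, hR, fun V h hh => ?_⟩
  obtain ⟨t, ht⟩ := hlift h hh
  refine ⟨toSec O (t ≫ x₁), ?_⟩
  rw [← toSec_comp, Category.assoc, ← hx₁, ← Category.assoc, ht, Category.comp_id,
    toSec_freeOnMap_comp, toSec_ofSec]

lemma exact_of_locallyExact (S : ShortComplex (ModSite.Mod O)) (hS : LocallyExact S) :
    S.Exact := by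
  rw [ShortComplex.exact_iff_epi_kernel_lift]
  apply Groth.Agent.Lib.Helper30.ModEpi.epi_of_isLocallySurjective
  constructor
  intro U x
  have hz : secMap S.g U (secMap (kernel.ι S.g) U x) = 0 := by
    rw [← secMap_comp, kernel.condition, secMap_zero]
  obtain ⟨R, hR, hlift⟩ := hS U _ hz
  refine J.superset_covering ?_ hR
  intro V h hh
  obtain ⟨y, hy⟩ := hlift h hh
  refine ⟨y, ?_⟩
  apply secMap_injective_of_mono (kernel.ι S.g) V
  show secMap (kernel.ι S.g) V (secMap (kernel.lift S.g S.f S.zero) V y) = _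
  rw [← secMap_comp, kernel.lift_ι, hy, secMap_map]
  rfl

lemma exact_iff_locallyExact (S : ShortComplex (ModSite.Mod O)) :
    S.Exact ↔ LocallyExact S :=
  ⟨locallyExact_of_exact S, exact_of_locallyExact S⟩

end Groth.Agent.Lib.Helper36.PushTrunc
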