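import Groth.Agent.Lib.Helper83.SingleHom

/-!
# Maps from a single object to a K-injective complex which vanish in the derived category (helper36)
-/

set_option autoImplicit false
universe w v u

namespace Groth.Agent.Lib.Helper36.PushTrunc

open CategoryTheory CategoryTheory.Limits HomologicalComplex DerivedCategory
open Groth.Agent.Lib.Helper83.SingleHom

variable {A : Type u} [Category.{v} A] [Abelian A] [HasDerivedCategory.{w} A]

/-- if `qm f = 0` and the target is K-injective then the cycle of `f` is a boundary -/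
lemma exists_boundary_of_qm_eq_zero {S : A} {L : CochainComplex A ℤ} [L.IsKInjective]
    (f : sg S ⟶ L) (hf : qm f = 0) :
    ∃ g : S ⟶ L.X (-1), g ≫ L.d (-1) 0 = (singleObjXSelf (ComplexShape.up ℤ) 0 S).inv ≫ f.f 0 := by
  have h1 : (HomotopyCategory.quotient A (ComplexShape.up ℤ)).map f = 0 := by
    apply (CochainComplex.IsKInjective.Qh_map_bijective
      ((HomotopyCategory.quotient A (ComplexShape.up ℤ)).obj (sg S)) L).injective
    rw [Functor.map_zero]
    exact hf
  have h2 : (HomotopyCategory.quotient A (ComplexShape.up ℤ)).map f =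
      (HomotopyCategory.quotient A (ComplexShape.up ℤ)).map 0 := by
    rw [h1, Functor.map_zero]
  have hh : Homotopy f 0 := HomotopyCategory.homotopyOfEq _ _ h2
  refine ⟨(singleObjXSelf (ComplexShape.up ℤ) 0 S).inv ≫ hh.hom 0 (-1), ?_⟩
  have h3 := hh.comm 0
  rw [Category.assoc]
  congr 1
  rw [h3]
  simp only [zero_f, add_zero]
  have h4 : (dNext 0) hh.hom = 0 := by
    rw [dNext_eq hh.hom (show (ComplexShape.up ℤ).Rel 0 1 by simp)]
    have : (sg S).d 0 1 = 0 := by simp
    rw [this, zero_comp]
  rw [h4, zero_add, prevD_eq hh.hom (show (ComplexShape.up ℤ).Rel (-1) 0 by simp)]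

end Groth.Agent.Lib.Helper36.PushTrunc
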