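import Groth.Agent.Lib.Helper83.ExtAcyc
import Groth.Agent.Lib.Helper32.RightRes
import Groth.Agent.Lib.Helper36.PushTrunc.KInjCycle

/-!
# Maps `S[0] ⟶ Q T` for a bounded below complex `T` with `Ext(S, -)`-acyclic terms (helper36)

If `T` is a bounded below complex whose terms are `Ext(S, -)`-acyclic and `ζ : S[0] ⟶ T` is a
chain map which vanishes in the derived category, then the cycle of `ζ` is a boundary.
-/

set_option autoImplicit false
universe w w' v u

namespace Groth.Agent.Lib.Helper36.PushTrunc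

open CategoryTheory CategoryTheory.Limits Opposite HomologicalComplex DerivedCategory ZeroObject
open Groth.Agent.Lib.Helper83.SingleHom Groth.Agent.Lib.Helper83.ExtAcyc

variable {A : Type u} [Category.{v} A] [Abelian A] [HasExt.{w'} A]

/-- injectivity on `H^0` of `Hom(S, -)` applied to a quasi-isomorphism between bounded below
complexes with `EA S` terms, in elementwise form -/
lemma boundary_of_map_boundary (S : A) {T L : CochainComplex A ℤ} (α : T ⟶ L) [QuasiIso α] (a : ℤ)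
    [T.IsStrictlyGE a] [L.IsStrictlyGE a]
    (hT : ∀ k, EA.{w'} S (T.X k)) (hL : ∀ k, EA.{w'} S (L.X k))
    (z : S ⟶ T.X 0) (hz : z ≫ T.d 0 1 = 0) (g' : S ⟶ L.X (-1))
    (hg' : g' ≫ L.d (-1) 0 = z ≫ α.f 0) :
    ∃ g : S ⟶ T.X (-1), g ≫ T.d (-1) 0 = z := by
  let G := (preadditiveCoyoneda.obj (op S)).mapHomologicalComplex (ComplexShape.up ℤ)
  have hq : QuasiIso (G.map α) := quasiIso_map S α a hT hL
  have h0 : QuasiIsoAt (G.map α) 0 := inferInstance
  rw [quasiIsoAt_iff' _ (-1) 0 1 (by simp) (by simp), ShortComplex.quasiIso_iff] at h0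
  have hmono : Mono (ShortComplex.homologyMap
      ((shortComplexFunctor' AddCommGrpCat.{v} (ComplexShape.up ℤ) (-1) 0 1).map (G.map α))) :=
    inferInstance
  rw [ShortComplex.mono_homologyMap_iff_up_to_refinements] at hmono
  let Z1 : AddCommGrpCat.{v} := AddCommGrpCat.of (ULift.{v} ℤ)
  let x₂ : Z1 ⟶ (G.obj T).X 0 :=
    AddCommGrpCat.ofHom ((zmultiplesHom (S ⟶ T.X 0) z).comp AddEquiv.ulift.toAddMonoidHom)
  let y₁ : Z1 ⟶ (G.obj L).X (-1) :=
    AddCommGrpCat.ofHom ((zmultiplesHom (S ⟶ L.X (-1)) g').comp AddEquiv.ulift.toAddMonoidHom)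
  have hx₂ : x₂ ≫ (G.obj T).d 0 1 = 0 := by
    ext ⟨n⟩
    show (n • z) ≫ T.d 0 1 = 0
    rw [Preadditive.zsmul_comp, hz, smul_zero]
  have hy₁ : x₂ ≫ (G.map α).f 0 = y₁ ≫ (G.obj L).d (-1) 0 := by
    ext ⟨n⟩
    show (n • z) ≫ α.f 0 = (n • g') ≫ L.d (-1) 0
    rw [Preadditive.zsmul_comp, Preadditive.zsmul_comp, hg']
  obtain ⟨A', π, hπ, x₁, hx₁⟩ := hmono x₂ hx₂ y₁ hy₁
  rw [AddCommGrpCat.epi_iff_surjective] at hπ
  obtain ⟨a', ha'⟩ := hπ ⟨1⟩
  refine ⟨x₁ a', ?_⟩
  have h1 := congrArg (fun φ => φ a') hx₁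
  have h2 : (π ≫ x₂) a' = z := by
    show x₂ (π a') = z
    rw [ha']
    show (1 : ℤ) • z = z
    rw [one_smul]
  have h3 : (x₁ ≫ (G.obj T).d (-1) 0) a' = x₁ a' ≫ T.d (-1) 0 := rfl
  exact h3.symm.trans (h1.symm.trans h2)

variable [HasDerivedCategory.{w} A] [EnoughInjectives A]

/-- a chain map `S[0] ⟶ T` into a bounded below complex with `EA S` terms which vanishes in the
derived category has a boundary as its cycle -/
lemma exists_boundary_of_qm_eq_zero_of_EA (S : A) (T : CochainComplex A ℤ) (a : ℤ)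
    [T.IsStrictlyGE a] (hT : ∀ k, EA.{w'} S (T.X k)) (ζ : sg S ⟶ T) (h : qm ζ = 0) :
    ∃ g : S ⟶ T.X (-1),
      g ≫ T.d (-1) 0 = (singleObjXSelf (ComplexShape.up ℤ) 0 S).inv ≫ ζ.f 0 := by
  obtain ⟨L, α, hL, hI, -, hq⟩ := Groth.Agent.Lib.Helper32.RightRes.exists_of_isStrictlyGE
    (I := fun X : A => Injective X)
    (fun X => ⟨Injective.under X, Injective.ι X, inferInstance, inferInstance⟩)
    ⟨0, isZero_zero _, inferInstance⟩ T a
  haveI := hL
  haveI : ∀ n, Injective (L.X n) := hI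
  haveI := hq
  haveI : L.IsKInjective := CochainComplex.isKInjective_of_injective L a
  have h' : qm (ζ ≫ α) = 0 := by
    show Q.map (ζ ≫ α) = 0
    rw [Q.map_comp]
    show qm ζ ≫ _ = 0
    rw [h, zero_comp]
  obtain ⟨g', hg'⟩ := exists_boundary_of_qm_eq_zero (ζ ≫ α) h'
  refine boundary_of_map_boundary S α a hT (fun k => EA_of_injective S (L.X k)) _ ?_ g' ?_
  · rw [Category.assoc, ζ.comm 0 1]
    have : (sg S).d 0 1 = 0 := by simp
    rw [this, zero_comp, comp_zero]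
  · rw [hg', comp_f, Category.assoc]

end Groth.Agent.Lib.Helper36.PushTrunc
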