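import Groth.Agent.Lib.Helper36.PushTrunc.HyperEA

/-!
# Degree `n` version of `exists_boundary_of_qm_eq_zero_of_EA` (helper36)
-/

set_option autoImplicit false
universe w w' v u

namespace Groth.Agent.Lib.Helper36.PushTrunc

open CategoryTheory CategoryTheory.Limits Opposite HomologicalComplex DerivedCategory ZeroObject
open Groth.Agent.Lib.Helper83.SingleHom Groth.Agent.Lib.Helper83.ExtAcyc

variable {A : Type u} [Category.{v} A] [Abelian A] [HasExt.{w'} A]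
  [HasDerivedCategory.{w} A] [EnoughInjectives A]

/-- if `T` is bounded below with `EA S` terms and `Hom_D(S[0], T[n]) = 0`, every `n`-cocycle
`S ⟶ T^n` is a coboundary -/
lemma exists_boundary_of_vanishing (S : A) (T : CochainComplex A ℤ) (a : ℤ) [T.IsStrictlyGE a]
    (hT : ∀ k, EA.{w'} S (T.X k)) (n : ℤ)
    (hvan : ∀ c : (DerivedCategory.singleFunctor A 0).obj S ⟶ (Q.obj T)⟦n⟧, c = 0)
    (ψ : S ⟶ T.X (0 + n)) (hψ : ψ ≫ T.d (0 + n) (1 + n) = 0) :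
    ∃ g : S ⟶ T.X (-1 + n), g ≫ T.d (-1 + n) (0 + n) = ψ := by
  haveI : (T⟦n⟧).IsStrictlyGE (a - n) := CochainComplex.isStrictlyGE_shift T a n (a - n) (by omega)
  have hT' : ∀ k, EA.{w'} S ((T⟦n⟧).X k) := fun k => hT (k + n)
  let ψ' : S ⟶ (T⟦n⟧).X 0 := ψ
  have hψ' : ψ' ≫ (T⟦n⟧).d 0 1 = 0 := by
    have hd : (T⟦n⟧).d 0 1 = n.negOnePow • T.d (0 + n) (1 + n) :=
      CochainComplex.shiftFunctor_obj_d' T n 0 1
    have e2 : ψ ≫ (n.negOnePow • T.d (0 + n) (1 + n)) =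
        n.negOnePow • (ψ ≫ T.d (0 + n) (1 + n)) := Linear.comp_units_smul _ _ _
    rw [hψ, smul_zero] at e2
    exact (congrArg (fun x => ψ' ≫ x) hd).trans e2
  let ζ : sg S ⟶ T⟦n⟧ := HomologicalComplex.mkHomFromSingle (K := T⟦n⟧) ψ' (fun j hj => by
    obtain rfl : j = 1 := by
      have : (0 : ℤ) + 1 = j := hj
      omega
    exact hψ')
  have h : qm ζ = 0 := by
    have h1 := hvan (qm ζ ≫ (Q.commShiftIso n).hom.app T)
    rw [← cancel_mono ((Q.commShiftIso n).hom.app T), h1, zero_comp]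
  obtain ⟨g, hg⟩ := exists_boundary_of_qm_eq_zero_of_EA S (T⟦n⟧) (a - n) hT' ζ h
  have hζ : ζ.f 0 = (singleObjXSelf (ComplexShape.up ℤ) 0 S).hom ≫ ψ' :=
    HomologicalComplex.mkHomFromSingle_f _ _
  have hg2 : g ≫ (T⟦n⟧).d (-1) 0 = ψ' := by
    rw [hg, hζ, Iso.inv_hom_id_assoc]
  have hd : (T⟦n⟧).d (-1) 0 = n.negOnePow • T.d (-1 + n) (0 + n) :=
    CochainComplex.shiftFunctor_obj_d' T n (-1) 0
  let g' : S ⟶ T.X (-1 + n) := g
  refine ⟨n.negOnePow • g', ?_⟩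
  have e1 : (n.negOnePow • g') ≫ T.d (-1 + n) (0 + n) =
      n.negOnePow • (g' ≫ T.d (-1 + n) (0 + n)) := Linear.units_smul_comp _ _ _
  have e2 : g' ≫ (n.negOnePow • T.d (-1 + n) (0 + n)) =
      n.negOnePow • (g' ≫ T.d (-1 + n) (0 + n)) := Linear.comp_units_smul _ _ _
  have e3 : g' ≫ (n.negOnePow • T.d (-1 + n) (0 + n)) = ψ :=
    (congrArg (fun x => g ≫ x) hd.symm).trans hg2
  exact e1.trans (e2.symm.trans e3)

end Groth.Agent.Lib.Helper36.PushTrunc
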