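import Groth.Agent.Lib.Helper83.SheafCommGrp
import Groth.Agent.Lib.Helper83.ExtAcycFin
import Groth.Agent.Lib.Helper5.SiteCoh
import Groth.Agent.S0864

/-!
# Direct images of totally acyclic abelian sheaves are acyclic on objects (helper36)

Let `u : D ⥤ C` be a continuous functor between small sites whose pullback on sheaves of sets is
exact. If `M` is a totally acyclic abelian sheaf on `C`, then `H^p(V, u_* M) = 0` for all `p > 0`
and all objects `V` of `D`.
-/

set_option autoImplicit false
universe u

namespace Groth.Agent.Lib.Helper36.PushTrunc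

open CategoryTheory CategoryTheory.Limits Abelian Opposite
open Groth.Agent.Lib.Helper83.ExtAcyc Groth.Agent.Lib.Helper83.ExtAcycFin
  Groth.Agent.Lib.Helper5.SiteCoh

variable {C D : Type u} [SmallCategory C] [SmallCategory D]
  (J : GrothendieckTopology C) (K : GrothendieckTopology D) (u : D ⥤ C) [u.IsContinuous K J]

section

variable [PreservesFiniteLimits (u.sheafPullback (Type u) K J)]

lemma preservesInjectiveObjects_push : (CohSite.push J K u).PreservesInjectiveObjects :=
  haveI := Groth.Agent.Lib.Helper83.SheafCommGrp.preservesMonomorphisms_sheafPullback K u (J := J)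
  Functor.preservesInjectiveObjects_of_adjunction_of_preservesMonomorphisms
    (u.sheafAdjunctionContinuous AddCommGrpCat.{u} K J)

end

variable {J}

lemma EA_of_totallyAcyclic (M : Sheaf J AddCommGrpCat.{u}) (hM : CohCx.IsTotallyAcyclic M)
    (K' : Sheaf J (Type u)) :
    EA.{u} ((presheafToSheaf J AddCommGrpCat.{u}).obj (K'.obj ⋙ AddCommGrpCat.free.{u})) M := by
  intro p hp x
  obtain ⟨q, rfl⟩ : ∃ q, p = q + 1 := ⟨p - 1, by omega⟩
  exact (hM K' q).elim x 0

lemma EA_freeSheaf_of_totallyAcyclic (M : Sheaf J AddCommGrpCat.{u}) (hM : CohCx.IsTotallyAcyclic M)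
    (U : C) : EA.{u} (freeSheaf J U) M := by
  intro p hp x
  obtain ⟨q, rfl⟩ : ∃ q, p = q + 1 := ⟨p - 1, by omega⟩
  have h : Subsingleton (Ext.{u} (freeSheaf J U) M (q + 1)) := Groth.Agent.S0864.result M hM U q
  exact h.elim x 0

lemma totallyAcyclic_X₃ (T : ShortComplex (Sheaf J AddCommGrpCat.{u})) (hT : T.ShortExact)
    (h₁ : CohCx.IsTotallyAcyclic T.X₁) [Injective T.X₂] : CohCx.IsTotallyAcyclic T.X₃ := by
  intro K' p
  have h := (two_of_three _ T hT (EA_of_totallyAcyclic _ h₁ K') (EA_of_injective _ _)).1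
  exact ⟨fun x y => by rw [h (p + 1) (by omega) x, h (p + 1) (by omega) y]⟩

/-- sections over `U` of a short exact sequence with totally acyclic kernel are surjective -/
lemma surjective_sections (T : ShortComplex (Sheaf J AddCommGrpCat.{u})) (hT : T.ShortExact)
    (h₁ : CohCx.IsTotallyAcyclic T.X₁) (U : C) :
    Function.Surjective (T.g.hom.app (op U)) := by
  intro s
  have hse := shortExact_map (freeSheaf J U) T hT (EA_freeSheaf_of_totallyAcyclic _ h₁ U)
  have hepi := hse.epi_g
  rw [AddCommGrpCat.epi_iff_surjective] at hepi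
  obtain ⟨ψ₂, hψ₂⟩ := hepi ((β U T.X₃).symm s)
  refine ⟨β U T.X₂ ψ₂, ?_⟩
  have h2 : ψ₂ ≫ T.g = (β U T.X₃).symm s := hψ₂
  rw [← β_naturality, h2, Equiv.apply_symm_apply]

variable (J) in
/-- `u_*` is exact on short exact sequences with totally acyclic kernel -/
lemma shortExact_push (T : ShortComplex (Sheaf J AddCommGrpCat.{u})) (hT : T.ShortExact)
    (h₁ : CohCx.IsTotallyAcyclic T.X₁) : (T.map (CohSite.push J K u)).ShortExact := by
  have hl := (Functor.preservesFiniteLimits_iff_forall_exact_map_and_mono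
    (CohSite.push J K u)).1 inferInstance T hT
  have hepi : Epi ((CohSite.push J K u).map T.g) := by
    have hls : Sheaf.IsLocallySurjective ((CohSite.push J K u).map T.g) :=
      Presheaf.isLocallySurjective_of_surjective K _
        (fun V => surjective_sections T hT h₁ (u.obj V.unop))
    exact (Sheaf.isLocallySurjective_iff_epi' _ _).mp hls
  exact { exact := hl.1, mono_f := hl.2, epi_g := hepi }

variable (J) in
/-- **`H^p(V, u_* M) = 0`** for `M` totally acyclic and `p > 0` -/
theorem EA_push [PreservesFiniteLimits (u.sheafPullback (Type u) K J)] (V : D) :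
    ∀ (p : ℕ) (M : Sheaf J AddCommGrpCat.{u}), CohCx.IsTotallyAcyclic M →
      ∀ x : Ext.{u} (freeSheaf K V) ((CohSite.push J K u).obj M) (p + 1), x = 0 := by
  intro p
  induction p with
  | zero =>
    intro M hM x
    have hT := sesInj_shortExact M
    have hT' := shortExact_push J K u (sesInj M) hT hM
    haveI := preservesInjectiveObjects_push J K u
    haveI : Injective ((sesInj M).map (CohSite.push J K u)).X₂ :=
      (CohSite.push J K u).injective_obj (sesInj M).X₂
    obtain ⟨x₃, hx₃⟩ := Ext.covariant_sequence_exact₁ (freeSheaf K V) hT' x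
      (Ext.eq_zero_of_injective _) (rfl : 0 + 1 = 1)
    obtain ⟨ψ, rfl⟩ := (Ext.mk₀_bijective _ _).2 x₃
    -- lift ψ through `u_* I ⟶ u_* Q`
    obtain ⟨s₂, hs₂⟩ := surjective_sections (sesInj M) hT hM (u.obj V)
      (β V ((CohSite.push J K u).obj (sesInj M).X₃) ψ)
    let ψ₂ : freeSheaf K V ⟶ ((sesInj M).map (CohSite.push J K u)).X₂ :=
      (β V ((CohSite.push J K u).obj (sesInj M).X₂)).symm s₂
    have hψ : ψ₂ ≫ ((sesInj M).map (CohSite.push J K u)).g = ψ := by
      apply (β V ((CohSite.push J K u).obj (sesInj M).X₃)).injective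
      have h5 := β_naturality V ((CohSite.push J K u).map (sesInj M).g) ψ₂
      refine h5.trans ?_
      simp only [ψ₂, Equiv.apply_symm_apply]
      exact hs₂
    have h1 : Ext.mk₀ ψ = (Ext.mk₀ ψ₂).comp
        (Ext.mk₀ ((sesInj M).map (CohSite.push J K u)).g) (add_zero 0) := by
      rw [Ext.mk₀_comp_mk₀, hψ]
    rw [← hx₃, h1, Ext.comp_assoc_of_second_deg_zero, hT'.comp_extClass]
    apply Ext.comp_zero
  | succ p ih =>
    intro M hM x
    have hT := sesInj_shortExact M
    have hT' := shortExact_push J K u (sesInj M) hT hM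
    haveI := preservesInjectiveObjects_push J K u
    haveI : Injective ((sesInj M).map (CohSite.push J K u)).X₂ :=
      (CohSite.push J K u).injective_obj (sesInj M).X₂
    obtain ⟨x₃, hx₃⟩ := Ext.covariant_sequence_exact₁ (freeSheaf K V) hT' x
      (Ext.eq_zero_of_injective _) (rfl : (p + 1) + 1 = p + 1 + 1)
    have hQ : CohCx.IsTotallyAcyclic (sesInj M).X₃ := totallyAcyclic_X₃ (sesInj M) hT hM
    have h0 : x₃ = 0 := ih (sesInj M).X₃ hQ x₃
    rw [← hx₃, h0]
    apply Ext.zero_comp

end Groth.Agent.Lib.Helper36.PushTrunc
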