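import Groth.Agent.Lib.Helper36.PushTrunc.PushAcyclic
import Groth.Agent.Lib.Helper36.PushTrunc.Core3

/-!
# `f_*` of an injective module is `Ext(freeOn O_D V, -)`-acyclic (helper36)
-/

set_option autoImplicit false
universe u

namespace Groth.Agent.Lib.Helper36.PushTrunc

open CategoryTheory CategoryTheory.Limits Abelian Opposite
open Groth.Agent.Lib.Helper83.ExtAcyc Groth.Agent.Lib.Helper74.ModTrunc
  Groth.Agent.Lib.Helper83.ModCoh Groth.Agent.Lib.Helper83.SingleHom
  Groth.Agent.Lib.Helper83.ModCech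

variable {C : Type u} [SmallCategory C] {J : GrothendieckTopology C}
  {O_C : Sheaf J CommRingCat.{u}}
  {D : Type u} [SmallCategory D] {K : GrothendieckTopology D} {O_D : Sheaf K CommRingCat.{u}}
  (f : ModSite.RMor O_C O_D)

/-- vanishing of `Ext^k_O(freeOn O V, F)` implies vanishing of `H^k(V, F_ab)` -/
lemma subsingleton_HU_of_ext_freeOn [HasExt.{u} (ModSite.Mod O_C)] (F : ModSite.Mod O_C) (k : ℕ)
    (V : C) (h : Subsingleton (Ext (ModSite.freeOn O_C V) F k)) :
    Subsingleton (ModSite.HU O_C F k V) := by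
  obtain ⟨e⟩ := nonempty_ext_addEquiv (ModSite.ringSh O_C) (yoneda.obj V) (fun I hI k => by
    have := hI
    exact Groth.Agent.S0864.result _
      (Groth.Agent.Lib.Helper83.ModAcyclic.isTotallyAcyclic_toSheaf_of_injective
        (ModSite.ringSh O_C) I) V k) F k
  have h2 : Subsingleton (Ext ((L (ModSite.ringSh O_C)).obj (yoneda.obj V)) F k) :=
    (extAddEquivOfIsoLeft (freeOnIso O_C V) F k).injective.subsingleton
  have h1 : Subsingleton (Ext ((LZ J).obj (yoneda.obj V))
      ((SheafOfModules.toSheaf (ModSite.ringSh O_C)).obj F) k) :=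
    e.symm.injective.subsingleton
  exact h1

/-- `H^{p+1}(V, f_* I) = 0` for an injective module `I` -/
lemma subsingleton_HU_push_of_injective (I : ModSite.Mod O_C) [Injective I] (V : D) (p : ℕ) :
    Subsingleton (ModSite.HU O_D (f.push.obj I) (p + 1) V) := by
  have hI : CohCx.IsTotallyAcyclic (ModSite.toAb I) :=
    Groth.Agent.Lib.Helper83.ModAcyclic.isTotallyAcyclic_toSheaf_of_injective
      (ModSite.ringSh O_C) I
  refine ⟨fun x y => ?_⟩
  have hx := EA_push J K f.fn V p (ModSite.toAb I) hI x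
  have hy := EA_push J K f.fn V p (ModSite.toAb I) hI y
  exact hx.trans hy.symm

/-- `f_* I` is `Ext(freeOn O_D V, -)`-acyclic for an injective module `I` -/
lemma EA_push_of_injective [HasExt.{u} (ModSite.Mod O_D)] (I : ModSite.Mod O_C) [Injective I]
    (V : D) : EA.{u} (ModSite.freeOn O_D V) (f.push.obj I) := by
  intro p hp x
  obtain ⟨q, rfl⟩ : ∃ q, p = q + 1 := ⟨p - 1, by omega⟩
  have := subsingleton_ext_freeOn (f.push.obj I) (q + 1) V
    (subsingleton_HU_push_of_injective f I V q)
  exact this.elim x 0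

end Groth.Agent.Lib.Helper36.PushTrunc
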