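import Groth.Agent.Lib.Helper36.PushTrunc.KInjCycle
import Groth.Agent.Lib.Helper36.PushTrunc.ExactLocal

/-!
# Classes of cycles of a complex of modules in the derived category (helper36)

For a complex `L` of `O`-modules on a small ringed site, an object `U` and a section
`z ∈ L⁰(U)` with `dz = 0`, we define the class `cl z : freeOn O U [0] ⟶ Q L` in the derived
category. If `L` is K-injective every map `freeOn O U [0] ⟶ Q L` is such a class, and the class
vanishes iff `z` is a boundary.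
-/

set_option autoImplicit false
universe w u

namespace Groth.Agent.Lib.Helper36.PushTrunc

open CategoryTheory CategoryTheory.Limits Opposite HomologicalComplex DerivedCategory
open Groth.Agent.Lib.Helper83.SingleHom Groth.Agent.Lib.Helper74.ModQc
  Groth.Agent.Lib.Helper74.ModTrunc

variable {C : Type u} [SmallCategory C] {J : GrothendieckTopology C}
  {O : Sheaf J CommRingCat.{u}}

lemma ofSec_zero {U : C} {M : ModSite.Mod O} :
    ofSec O (0 : M.val.obj (op U)) = 0 := by
  apply toSec_injective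
  rw [toSec_ofSec, toSec_zero]

/-- the chain map `freeOn O U [0] ⟶ L` attached to a cycle `z ∈ L⁰(U)` -/
noncomputable def chainOf (L : CochainComplex (ModSite.Mod O) ℤ) {U : C}
    (z : (L.X 0).val.obj (op U)) (hz : secMap (L.d 0 1) U z = 0) :
    sg (ModSite.freeOn O U) ⟶ L :=
  HomologicalComplex.mkHomFromSingle (ofSec O z) (fun k hk => by
    obtain rfl : k = 1 := by
      have : (0 : ℤ) + 1 = k := hk
      omega
    rw [ofSec_comp, hz, ofSec_zero])

lemma chainOf_f (L : CochainComplex (ModSite.Mod O) ℤ) {U : C}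
    (z : (L.X 0).val.obj (op U)) (hz : secMap (L.d 0 1) U z = 0) :
    (chainOf L z hz).f 0 =
      (singleObjXSelf (ComplexShape.up ℤ) 0 (ModSite.freeOn O U)).hom ≫ ofSec O z :=
  HomologicalComplex.mkHomFromSingle_f _ _

lemma chainOf_ext (L : CochainComplex (ModSite.Mod O) ℤ) {U : C}
    (z : (L.X 0).val.obj (op U)) (hz : secMap (L.d 0 1) U z = 0)
    (f : sg (ModSite.freeOn O U) ⟶ L)
    (hf : (singleObjXSelf (ComplexShape.up ℤ) 0 (ModSite.freeOn O U)).inv ≫ f.f 0 = ofSec O z) :
    f = chainOf L z hz := by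
  apply HomologicalComplex.from_single_hom_ext
  rw [chainOf_f, ← hf, Iso.hom_inv_id_assoc]

section

variable [HasDerivedCategory.{w} (ModSite.Mod O)]

/-- the class of a cycle in the derived category -/
noncomputable def cl (L : CochainComplex (ModSite.Mod O) ℤ) {U : C}
    (z : (L.X 0).val.obj (op U)) (hz : secMap (L.d 0 1) U z = 0) :
    (DerivedCategory.singleFunctor (ModSite.Mod O) 0).obj (ModSite.freeOn O U) ⟶ Q.obj L :=
  qm (chainOf L z hz)

lemma cl_eq_zero_of_boundary (L : CochainComplex (ModSite.Mod O) ℤ) {U : C}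
    (z : (L.X 0).val.obj (op U)) (hz : secMap (L.d 0 1) U z = 0)
    (y : (L.X (-1)).val.obj (op U)) (hy : secMap (L.d (-1) 0) U y = z) :
    cl L z hz = 0 := by
  refine qm_eq_zero _ (ofSec O y) ?_
  rw [← cancel_mono (L.iCycles 0), Category.assoc, toCycles_i, zOf_iCycles, chainOf_f,
    Iso.inv_hom_id_assoc, ofSec_comp, hy]

lemma exists_boundary_of_cl_eq_zero (L : CochainComplex (ModSite.Mod O) ℤ) [L.IsKInjective]
    {U : C} (z : (L.X 0).val.obj (op U)) (hz : secMap (L.d 0 1) U z = 0)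
    (h : cl L z hz = 0) :
    ∃ y : (L.X (-1)).val.obj (op U), secMap (L.d (-1) 0) U y = z := by
  obtain ⟨g, hg⟩ := exists_boundary_of_qm_eq_zero (chainOf L z hz) h
  refine ⟨toSec O g, ?_⟩
  rw [← toSec_comp, hg, chainOf_f, Iso.inv_hom_id_assoc, toSec_ofSec]

lemma exists_cl_eq (L : CochainComplex (ModSite.Mod O) ℤ) [L.IsKInjective] {U : C}
    (c : (DerivedCategory.singleFunctor (ModSite.Mod O) 0).obj (ModSite.freeOn O U) ⟶ Q.obj L) :
    ∃ (z : (L.X 0).val.obj (op U)) (hz : secMap (L.d 0 1) U z = 0), cl L z hz = c := by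
  obtain ⟨f, hf⟩ := exists_qm_eq c
  let ψ : ModSite.freeOn O U ⟶ L.X 0 :=
    (singleObjXSelf (ComplexShape.up ℤ) 0 (ModSite.freeOn O U)).inv ≫ f.f 0
  have hψ : ψ ≫ L.d 0 1 = 0 := by
    dsimp only [ψ]
    rw [Category.assoc, f.comm 0 1]
    have : (sg (ModSite.freeOn O U)).d 0 1 = 0 := by simp
    rw [this, zero_comp, comp_zero]
  have hz : secMap (L.d 0 1) U (toSec O ψ) = 0 := by
    rw [← toSec_comp, hψ, toSec_zero]
  refine ⟨toSec O ψ, hz, ?_⟩
  have : f = chainOf L (toSec O ψ) hz := chainOf_ext L _ hz f (by rw [ofSec_toSec])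
  rw [← hf, this]
  rfl

lemma cl_restrict (L : CochainComplex (ModSite.Mod O) ℤ) {U V : C} (h : V ⟶ U)
    (z : (L.X 0).val.obj (op U)) (hz : secMap (L.d 0 1) U z = 0)
    (hz' : secMap (L.d 0 1) V ((L.X 0).val.map h.op z : (L.X 0).val.obj (op V)) = 0) :
    (DerivedCategory.singleFunctor (ModSite.Mod O) 0).map (freeOnMap O h) ≫ cl L z hz =
      cl L (U := V) ((L.X 0).val.map h.op z) hz' := by
  dsimp only [cl]
  rw [qm_precomp]
  congr 1
  apply chainOf_ext
  rw [comp_f, single_map_f_self, chainOf_f]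
  simp only [Category.assoc, Iso.inv_hom_id_assoc]
  rw [freeOnMap_ofSec]

omit [HasDerivedCategory.{w} (ModSite.Mod O)] in
lemma restrict_cycle (L : CochainComplex (ModSite.Mod O) ℤ) {U V : C} (h : V ⟶ U)
    (z : (L.X 0).val.obj (op U)) (hz : secMap (L.d 0 1) U z = 0) :
    secMap (L.d 0 1) V ((L.X 0).val.map h.op z : (L.X 0).val.obj (op V)) = 0 := by
  rw [← secMap_map, hz]
  exact map_zero _

end

end Groth.Agent.Lib.Helper36.PushTrunc
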