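import Groth.Agent.Lib.Helper36.PushTrunc.PushEA
import Groth.Agent.Lib.Helper36.PushTrunc.HyperEA2
import Groth.Agent.Lib.Helper32.RFBounded

/-!
# Bounded cohomological dimension upstairs from downstairs (helper36)

Let `f : (C, O_C) → (D, O_D)` be a morphism of ringed sites, `F` an `O_C`-module with
`R^p f_* F ∈ A'` for all `p` and `R^p f_* F = 0` for `p > N`. If `Y` is an object of `D` with
`H^k(Y, G) = 0` for `G ∈ A'`, `k > d`, then `H^k(u Y, F) = 0` for `k > d + N`.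
-/

set_option autoImplicit false
universe v v' u u'

namespace Groth.Agent.Lib.Helper36.PushTrunc

open CategoryTheory CategoryTheory.Limits Abelian Opposite DerivedCategory
open Groth.Agent.Lib.Helper83.ExtAcyc Groth.Agent.Lib.Helper74.ModTrunc
  Groth.Agent.Lib.Helper74.ModQc Groth.Agent.Lib.Helper32

section General

variable {A : Type u} [Category.{v} A] [Abelian A] [HasInjectiveResolutions A]
  {B : Type u'} [Category.{v'} B] [Abelian B] (G : A ⥤ B) [G.Additive]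
  {M : A} (R : InjectiveResolution M)

/-- the homology of `G` applied to an injective resolution computes the right derived functors -/
noncomputable def homologyMapCochainComplexIso (p : ℕ) (q : ℤ) (h : (p : ℤ) = q) :
    ((G.mapHomologicalComplex (ComplexShape.up ℤ)).obj R.cochainComplex).homology q ≅
      (G.rightDerived p).obj M :=
  (HomologicalComplex.homologyFunctor B (ComplexShape.up ℤ) q).mapIso
      (ExtendMap.extendMapIso G ComplexShape.embeddingUpNat R.cocomplex) ≪≫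
    HomologicalComplex.extendHomologyIso
      ((G.mapHomologicalComplex (ComplexShape.up ℕ)).obj R.cocomplex)
      ComplexShape.embeddingUpNat (j := p) (j' := q) (by simp [h]) ≪≫
    (R.isoRightDerivedObj G p).symm

lemma isZero_homology_mapCochainComplex_neg (q : ℤ) (hq : q < 0) :
    IsZero (((G.mapHomologicalComplex (ComplexShape.up ℤ)).obj R.cochainComplex).homology q) := by
  refine IsZero.of_iso ?_ ((HomologicalComplex.homologyFunctor B (ComplexShape.up ℤ) q).mapIso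
      (ExtendMap.extendMapIso G ComplexShape.embeddingUpNat R.cocomplex))
  show IsZero ((((G.mapHomologicalComplex (ComplexShape.up ℕ)).obj R.cocomplex).extend
    ComplexShape.embeddingUpNat).homology q)
  rw [← HomologicalComplex.exactAt_iff_isZero_homology]
  apply HomologicalComplex.exactAt_of_isSupported _ ComplexShape.embeddingUpNat
  intro k hk
  simp at hk
  lia

end General

section Main

attribute [local instance] HasDerivedCategory.standard

variable {C : Type u} [SmallCategory C] {J : GrothendieckTopology C}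
  {O_C : Sheaf J CommRingCat.{u}}
  {D : Type u} [SmallCategory D] {K : GrothendieckTopology D} {O_D : Sheaf K CommRingCat.{u}}
  (f : ModSite.RMor O_C O_D) [HasInjectiveResolutions (ModSite.Mod O_C)]

theorem subsingleton_HU_upstairs
    (A' : ObjectProperty (ModSite.Mod O_D)) [WSerre.IsWeakSerre A']
    (F : ModSite.Mod O_C) (N : ℤ)
    (h3 : ∀ p : ℕ, A' ((f.Rpush p).obj F))
    (h4 : ∀ p : ℕ, N < (p : ℤ) → IsZero ((f.Rpush p).obj F))
    (Y : D) (d : ℕ)
    (hY : ∀ G : ModSite.Mod O_D, A' G → ∀ k : ℕ, d < k →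
      Subsingleton (ModSite.HU O_D G k Y))
    (k : ℕ) (hk : (d : ℤ) + N < k) (hk0 : 0 < k) :
    Subsingleton (ModSite.HU O_C F k (f.fn.obj Y)) := by
  classical
  haveI : IsGrothendieckAbelian.{u} (ModSite.Mod O_C) :=
    Groth.Agent.S0484.result J (ModSite.ringSh O_C)
  haveI : IsGrothendieckAbelian.{u} (ModSite.Mod O_D) :=
    Groth.Agent.S0484.result K (ModSite.ringSh O_D)
  have hExtC : HasExt.{u} (ModSite.Mod O_C) := hasExt_of_enoughInjectives _
  have hExtD : HasExt.{u} (ModSite.Mod O_D) := hasExt_of_enoughInjectives _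
  apply subsingleton_HU_of_ext_freeOn
  let R := injectiveResolution F
  suffices h : ∀ α : Ext (ModSite.freeOn O_C (f.fn.obj Y)) F k, α = 0 from
    ⟨fun α β => by rw [h α, h β]⟩
  intro α
  obtain ⟨p, rfl⟩ : ∃ p, k = p + 1 := ⟨k - 1, by omega⟩
  obtain ⟨φ, hφ, rfl⟩ := R.extMk_surjective α (p + 1 + 1) rfl
  rw [R.extMk_eq_zero_iff φ (p + 1 + 1) rfl hφ p rfl]
  -- the complex `T = f_* R`
  let T : CochainComplex (ModSite.Mod O_D) ℤ := FC f R.cochainComplex
  haveI : T.IsStrictlyGE 0 := by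
    dsimp only [T, FC]
    infer_instance
  have hT : ∀ n, EA.{u} (ModSite.freeOn O_D Y) (T.X n) := fun n =>
    EA_push_of_injective f (R.cochainComplex.X n) Y
  have hS : ∀ G, A' G → ∀ k : ℕ, d < k →
      Subsingleton (Ext.{u} (ModSite.freeOn O_D Y) G k) := fun G hG k hk =>
    subsingleton_ext_freeOn G k Y (hY G hG k hk)
  have hH : ∀ q : ℤ, A' ((homologyFunctor (ModSite.Mod O_D) q).obj (Q.obj T)) ∧
      (N < q → IsZero ((homologyFunctor (ModSite.Mod O_D) q).obj (Q.obj T))) := by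
    intro q
    have e := (homologyFunctorFactors (ModSite.Mod O_D) q).app T
    by_cases hq : q < 0
    · have hz : IsZero ((homologyFunctor (ModSite.Mod O_D) q).obj (Q.obj T)) :=
        IsZero.of_iso (isZero_homology_mapCochainComplex_neg f.push R q hq) e
      exact ⟨A'.prop_of_isZero hz, fun _ => hz⟩
    · obtain ⟨p', hp'⟩ := Int.eq_ofNat_of_zero_le (not_lt.1 hq)
      have e' := e ≪≫ homologyMapCochainComplexIso f.push R p' q hp'.symm
      exact ⟨A'.prop_of_iso e'.symm (h3 p'), fun hN => IsZero.of_iso (h4 p' (by omega)) e'⟩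
  have hvan : ∀ c : (singleFunctor (ModSite.Mod O_D) 0).obj (ModSite.freeOn O_D Y) ⟶
      (Q.obj T)⟦((p + 1 : ℕ) : ℤ)⟧, c = 0 := by
    intro c
    refine Dev.hom_single_eq_zero_of_vanishing (ModSite.freeOn O_D Y) A' d hS (Q.obj T) 0
      inferInstance (fun q => (hH q).1) _ ?_ c
    intro q h1 h2
    exact (hH q).2 (by push_cast at h1 ⊢; omega)
  -- the cocycle
  let ek := R.cochainComplexXIso (0 + ((p + 1 : ℕ) : ℤ)) (p + 1) (by simp)
  let ek1 := R.cochainComplexXIso (1 + ((p + 1 : ℕ) : ℤ)) (p + 1 + 1) (by push_cast; omega)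
  let ep := R.cochainComplexXIso (-1 + ((p + 1 : ℕ) : ℤ)) p (by push_cast; omega)
  have hd1 : R.cochainComplex.d (0 + ((p + 1 : ℕ) : ℤ)) (1 + ((p + 1 : ℕ) : ℤ)) =
      ek.hom ≫ R.cocomplex.d (p + 1) (p + 1 + 1) ≫ ek1.inv := R.cochainComplex_d _ _ _ _ _ _
  have hd0 : R.cochainComplex.d (-1 + ((p + 1 : ℕ) : ℤ)) (0 + ((p + 1 : ℕ) : ℤ)) =
      ep.hom ≫ R.cocomplex.d p (p + 1) ≫ ek.inv := R.cochainComplex_d _ _ _ _ _ _
  let φ' : ModSite.freeOn O_C (f.fn.obj Y) ⟶ R.cochainComplex.X (0 + ((p + 1 : ℕ) : ℤ)) :=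
    φ ≫ ek.inv
  have hφ' : φ' ≫ R.cochainComplex.d (0 + ((p + 1 : ℕ) : ℤ)) (1 + ((p + 1 : ℕ) : ℤ)) = 0 := by
    rw [hd1]
    dsimp only [φ']
    rw [Category.assoc, Iso.inv_hom_id_assoc, ← Category.assoc, hφ, zero_comp]
  let z : (T.X (0 + ((p + 1 : ℕ) : ℤ))).val.obj (op Y) := toSec O_C φ'
  let ψ : ModSite.freeOn O_D Y ⟶ T.X (0 + ((p + 1 : ℕ) : ℤ)) := ofSec O_D z
  have hψ : ψ ≫ T.d (0 + ((p + 1 : ℕ) : ℤ)) (1 + ((p + 1 : ℕ) : ℤ)) = 0 := by
    dsimp only [ψ]
    rw [ofSec_comp]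
    have h1' : secMap (R.cochainComplex.d (0 + ((p + 1 : ℕ) : ℤ)) (1 + ((p + 1 : ℕ) : ℤ)))
        (f.fn.obj Y) (toSec O_C φ') = 0 := by
      rw [← toSec_comp, hφ', toSec_zero]
    have h1 : secMap (T.d (0 + ((p + 1 : ℕ) : ℤ)) (1 + ((p + 1 : ℕ) : ℤ))) Y z =
        (0 : (T.X (1 + ((p + 1 : ℕ) : ℤ))).val.obj (op Y)) := h1'
    rw [h1, ofSec_zero]
  obtain ⟨g, hg⟩ := exists_boundary_of_vanishing (ModSite.freeOn O_D Y) T 0 hT
    ((p + 1 : ℕ) : ℤ) hvan ψ hψ
  let w : (R.cochainComplex.X (-1 + ((p + 1 : ℕ) : ℤ))).val.obj (op (f.fn.obj Y)) := toSec O_D g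
  refine ⟨ofSec O_C w ≫ ep.hom, ?_⟩
  have h2 : ofSec O_C w ≫
      R.cochainComplex.d (-1 + ((p + 1 : ℕ) : ℤ)) (0 + ((p + 1 : ℕ) : ℤ)) = φ' := by
    rw [ofSec_comp]
    have h3 : secMap (R.cochainComplex.d (-1 + ((p + 1 : ℕ) : ℤ)) (0 + ((p + 1 : ℕ) : ℤ)))
        (f.fn.obj Y) w = toSec O_D (g ≫ T.d (-1 + ((p + 1 : ℕ) : ℤ)) (0 + ((p + 1 : ℕ) : ℤ))) := by
      rw [toSec_comp]
      rfl
    rw [h3, hg]
    dsimp only [ψ]
    rw [toSec_ofSec]
    exact ofSec_toSec φ'
  have h5 : (ofSec O_C w ≫ ep.hom) ≫ R.cocomplex.d p (p + 1) =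
      (ofSec O_C w ≫ R.cochainComplex.d (-1 + ((p + 1 : ℕ) : ℤ)) (0 + ((p + 1 : ℕ) : ℤ))) ≫
        ek.hom := by
    rw [hd0]
    simp only [Category.assoc, Iso.inv_hom_id, Category.comp_id]
  rw [h5, h2]
  dsimp only [φ']
  rw [Category.assoc, Iso.inv_hom_id, Category.comp_id]

end Main

end Groth.Agent.Lib.Helper36.PushTrunc
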